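import Mathlib
import Cfsg.Prelude.Def_SevenCases
import Cfsg.Agent.SignalizersComponents.Components
import Cfsg.Agent.Lib.Cores
import Cfsg.Agent.CpQuot.Congr
set_option linter.all false

/-!
# Components of `H / O_{p'}(H)`: tools for the rows "`L_p(G)` consists of `C_p`-groups"

* `Comps p H` : every component of `H / O_{p'}(H)` is a `C_p`-group; `Comps.congr`, `lpAll_iff`.
* `Comps.of_solvable`, `Comps.of_normal` : `H` solvable; `H` has a normal quasisimple `C_p`-subgroup with solvable quotient.
-/

set_option autoImplicit false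

namespace Cfsg.Agent.LThree

open Subgroup Cfsg

universe u v

/-- Every component of `H / O_{p'}(H)` is a `C_p`-group. -/
def Comps (p : ℕ) (H : Type*) [Group H] : Prop :=
  ∀ K : Subgroup (H ⧸ pPrimeCore p H), IsComponent K → InC p ↥K

theorem lpAll_iff {p : ℕ} {X : Type u} [Group X] :
    LpAll p X (InC p) ↔ ∀ x : X, orderOf x = p → Comps p ↥(centralizer ({x} : Set X)) := Iff.rfl

theorem map_pPrimeCore {H : Type u} {H' : Type v} [Group H] [Group H'] (p : ℕ) (e : H ≃* H') :
    (pPrimeCore p H).map e.toMonoidHom = pPrimeCore p H' := by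
  have key : ∀ {A : Type u} {B : Type v} [Group A] [Group B] (f : A ≃* B),
      (pPrimeCore p A).map f.toMonoidHom ≤ pPrimeCore p B := by
    intro A B _ _ f
    unfold pPrimeCore
    rw [Subgroup.map_le_iff_le_comap]
    apply sSup_le
    rintro N ⟨hN, hc⟩
    rw [← Subgroup.map_le_iff_le_comap]
    apply le_sSup
    refine ⟨hN.map _ f.surjective, ?_⟩
    rwa [← Nat.card_congr (N.equivMapOfInjective f.toMonoidHom f.injective).toEquiv]
  have key' : ∀ {A : Type v} {B : Type u} [Group A] [Group B] (f : A ≃* B),
      (pPrimeCore p A).map f.toMonoidHom ≤ pPrimeCore p B := by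
    intro A B _ _ f
    unfold pPrimeCore
    rw [Subgroup.map_le_iff_le_comap]
    apply sSup_le
    rintro N ⟨hN, hc⟩
    rw [← Subgroup.map_le_iff_le_comap]
    apply le_sSup
    refine ⟨hN.map _ f.surjective, ?_⟩
    rwa [← Nat.card_congr (N.equivMapOfInjective f.toMonoidHom f.injective).toEquiv]
  apply le_antisymm (key e)
  intro y hy
  exact ⟨e.symm y, key' e.symm ⟨y, hy, rfl⟩, e.apply_symm_apply y⟩

/-- `H / O_{p'}(H) ≅ H' / O_{p'}(H')` -/
noncomputable def quo {H : Type u} {H' : Type v} [Group H] [Group H'] (p : ℕ) (e : H ≃* H') :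
    H ⧸ pPrimeCore p H ≃* H' ⧸ pPrimeCore p H' :=
  QuotientGroup.congr _ _ e (map_pPrimeCore p e)

theorem isComponent_map {H : Type u} {H' : Type v} [Group H] [Group H'] (e : H ≃* H') {K : Subgroup H}
    (hK : IsComponent K) : IsComponent (K.map e.toMonoidHom) :=
  SignalizersComponents.Components.isComponent_map_equiv e hK

theorem Comps.congr {H : Type u} {H' : Type v} [Group H] [Group H'] {p : ℕ} (e : H ≃* H') (h : Comps p H) :
    Comps p H' := by
  intro K hK
  have h1 := h _ (isComponent_map (quo p e).symm hK)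
  exact (CpQuot.Congr.inC_iff (K.equivMapOfInjective (quo p e).symm.toMonoidHom (quo p e).symm.injective) p).2 h1

/-- transport of `L_p(X) ⊆ C_p` -/
theorem lpAll_of_equiv {X : Type u} {Y : Type v} [Group X] [Group Y] {p : ℕ} (e : X ≃* Y)
    (h : ∀ x : X, orderOf x = p → Comps p ↥(centralizer ({x} : Set X))) : LpAll p Y (InC p) := by
  rw [lpAll_iff]
  intro y hy
  have h1 := h (e.symm y) (by rw [MulEquiv.orderOf_eq, hy])
  refine h1.congr (((centralizer ({e.symm y} : Set X)).equivMapOfInjective e.toMonoidHom e.injective).trans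
    (MulEquiv.subgroupCongr ?_))
  ext z
  constructor
  · rintro ⟨x, hx, rfl⟩
    rw [SetLike.mem_coe, mem_centralizer_singleton_iff] at hx
    rw [mem_centralizer_singleton_iff]
    change e x * y = y * e x
    have h2 := congrArg e hx
    rw [map_mul, map_mul, e.apply_symm_apply] at h2
    exact h2
  · intro hz
    rw [mem_centralizer_singleton_iff] at hz
    refine ⟨e.symm z, ?_, e.apply_symm_apply z⟩
    rw [SetLike.mem_coe, mem_centralizer_singleton_iff]
    apply e.injective
    rw [map_mul, map_mul, e.apply_symm_apply, e.apply_symm_apply, hz]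

theorem lpoAll_of_lpAll {p : ℕ} {X : Type u} [Group X] {P : ∀ (K : Type u) [Group K], Prop} (h : LpAll p X P) :
    LpoAll p X P := fun x hx _ K hK => h x hx K hK

/-- A perfect subgroup lies in all the terms of the derived series. -/
theorem le_derivedSeries_of_perfect {H : Type*} [Group H] {L : Subgroup H} (hL : ⁅L, L⁆ = L) (n : ℕ) :
    L ≤ derivedSeries H n := by
  induction n with
  | zero => exact le_top
  | succ n ih =>
    rw [← hL, derivedSeries_succ]
    exact commutator_mono ih ih

theorem derivedSeries_le_of_solvable {H : Type*} [Group H] (N : Subgroup H) [N.Normal]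
    (hs : Group.IsSolvable (H ⧸ N)) : ∃ n, derivedSeries H n ≤ N := by
  obtain ⟨n, hn⟩ := hs.solvable
  refine ⟨n, ?_⟩
  have h1 := map_derivedSeries_le_derivedSeries (QuotientGroup.mk' N) n
  rw [hn, le_bot_iff, Subgroup.map_eq_bot_iff, QuotientGroup.ker_mk'] at h1
  exact h1

section

variable {H : Type u} [Group H] [Finite H] {p : ℕ}

omit [Finite H] in
theorem Comps.of_solvable (hs : Group.IsSolvable H) : Comps p H := by
  intro K hK
  exfalso
  apply SignalizersComponents.Components.quasisimple_not_isSolvable hK.2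
  have := (Lib.Cores.pPrimeCore_normal (G := H) p)
  have h1 : Group.IsSolvable (H ⧸ pPrimeCore p H) := inferInstance
  infer_instance

/-- The only component of `H / O_{p'}(H)` if `H` has a normal quasisimple subgroup `N` with `Z(N)` a `p`-group and
`H / N` solvable. -/
theorem comp_equiv_of_normal (hp : p.Prime) (N : Subgroup H) [N.Normal] (hN : IsQuasisimple ↥N)
    (hZ : IsPGroup p ↥(center ↥N)) (hs : Group.IsSolvable (H ⧸ N)) (K : Subgroup (H ⧸ pPrimeCore p H))
    (hK : IsComponent K) : Nonempty (↥N ≃* ↥K) := by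
  have hO := Lib.Cores.pPrimeCore_normal (G := H) p
  have : Fact p.Prime := ⟨hp⟩
  let π : H →* H ⧸ pPrimeCore p H := QuotientGroup.mk' (pPrimeCore p H)
  have hπ : Function.Surjective π := QuotientGroup.mk'_surjective _
  -- `K ≤ π(N)`
  have hKN : K ≤ N.map π := by
    obtain ⟨n, hn⟩ := derivedSeries_le_of_solvable N hs
    have h1 := le_derivedSeries_of_perfect (SignalizersComponents.Components.component_commutator_self hK) n
    refine h1.trans ?_
    rw [← map_derivedSeries_eq hπ n]
    exact map_mono hn
  have hKne : K ≠ ⊥ := SignalizersComponents.Components.component_ne_bot hK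
  -- `N ∩ O_{p'}(H) = 1`
  have hinf : N ⊓ pPrimeCore p H = ⊥ := by
    have h1 : ((pPrimeCore p H).subgroupOf N).Normal := inferInstance
    rcases SignalizersComponents.Components.quasisimple_subnormal hN
      (N := (pPrimeCore p H).subgroupOf N) h1.isSubnormal with h2 | h2
    · exfalso
      apply hKne
      rw [eq_bot_iff]
      refine hKN.trans ?_
      rw [le_bot_iff, Subgroup.map_eq_bot_iff, QuotientGroup.ker_mk']
      exact subgroupOf_eq_top.1 h2
    · have h3 : IsPGroup p ↥((pPrimeCore p H).subgroupOf N) := hZ.to_le h2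
      have h4 : (Nat.card ↥((pPrimeCore p H).subgroupOf N)).Coprime p := by
        have h5 : Nat.card ↥((pPrimeCore p H).subgroupOf N) ∣ Nat.card ↥(pPrimeCore p H) := by
          rw [Nat.card_congr (((pPrimeCore p H).subgroupOf N).equivMapOfInjective N.subtype
            N.subtype_injective).toEquiv]
          apply card_dvd_of_le
          rintro _ ⟨x, hx, rfl⟩
          exact hx
        exact Nat.Coprime.coprime_dvd_left h5 (Lib.Cores.pPrimeCore_coprime p)
      have h6 : Nat.card ↥((pPrimeCore p H).subgroupOf N) = 1 := by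
        obtain ⟨m, hm⟩ := IsPGroup.iff_card.1 h3
        rw [hm] at h4 ⊢
        rcases Nat.eq_zero_or_pos m with h0 | h0
        · rw [h0, pow_zero]
        · exfalso
          have := (Nat.coprime_pow_left_iff h0 p p).1 h4
          rw [Nat.coprime_self] at this
          exact hp.one_lt.ne' this
      have h7 := Subgroup.card_eq_one.1 h6
      rw [eq_bot_iff]
      rintro x ⟨hx1, hx2⟩
      have h8 : (⟨x, hx1⟩ : ↥N) ∈ (pPrimeCore p H).subgroupOf N := hx2
      rw [h7, mem_bot] at h8
      exact congrArg Subtype.val h8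
  -- `N ≃ π(N)`
  let f : ↥N →* H ⧸ pPrimeCore p H := π.comp N.subtype
  have hf : Function.Injective f := by
    rw [injective_iff_map_eq_one]
    intro x hx
    have h1 : (x : H) ∈ pPrimeCore p H := (QuotientGroup.eq_one_iff _).1 hx
    have h2 : (x : H) ∈ N ⊓ pPrimeCore p H := ⟨x.2, h1⟩
    rw [hinf, mem_bot] at h2
    exact Subtype.ext h2
  have hr : f.range = N.map π := by
    rw [MonoidHom.range_comp, range_subtype]
  let e : ↥N ≃* ↥(N.map π) := (MonoidHom.ofInjective hf).trans (MulEquiv.subgroupCongr hr)
  have hq : IsQuasisimple ↥(N.map π) := SignalizersComponents.Components.isQuasisimple_of_mulEquiv e hN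
  -- `K = π(N)`
  have hKeq : K = N.map π := by
    have h1 : (K.subgroupOf (N.map π)).IsSubnormal := by
      have h2 := hK.1.comap (N.map π).subtype
      exact h2
    rcases SignalizersComponents.Components.quasisimple_subnormal hq h1 with h2 | h2
    · exact le_antisymm hKN (subgroupOf_eq_top.1 h2)
    · exfalso
      apply SignalizersComponents.Components.quasisimple_not_isMulCommutative hK.2
      refine ⟨⟨fun a b => ?_⟩⟩
      have ha : (⟨a, hKN a.2⟩ : ↥(N.map π)) ∈ center ↥(N.map π) := h2 (mem_subgroupOf.2 a.2)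
      have := mem_center_iff.1 ha ⟨b, hKN b.2⟩
      exact Subtype.ext (congrArg Subtype.val this).symm
  exact ⟨e.trans (MulEquiv.subgroupCongr hKeq.symm)⟩

theorem Comps.of_normal (hp : p.Prime) (N : Subgroup H) [N.Normal] (hN : InC p ↥N)
    (hs : Group.IsSolvable (H ⧸ N)) : Comps p H := by
  intro K hK
  obtain ⟨e⟩ := comp_equiv_of_normal hp N hN.1 hN.2.1 hs K hK
  exact (CpQuot.Congr.inC_iff e p).1 hN

end

end Cfsg.Agent.LThree
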