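import Cfsg.Agent.LThree.Red
import Cfsg.Agent.Prune
set_option linter.all false
prune_inst 0x7f00000000000000000000000000000000000000000000000000000000000000000000000000000000000000000000000000000000000000000000000000000000000000000000000000000000000000003fffffffffffffffffffffffffffbeffbdffffffff
open scoped Cfsg.Agent.FastGrp

/-!
# Reduction for the rows "`L_p(G)` consists of `C_p`-groups", part 2 (helper7)

* `centCent` : `C_{C(x)}(s) ≃* C_{C(s)}(x)`;
* `lpAll_of_red` : `Red.main` for `L_p(G)`;
* `comps_of_sup_normal`, `comps_prod` : `H = A B` with `A`, `B` normal;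
* `coreCond_of_le`, `coreCond_of_irred`, `coreCond_of_abelian` : criteria for `CoreCond`.
-/

set_option autoImplicit false
set_option linter.unusedSectionVars false
set_option linter.unusedVariables false

namespace Cfsg.Agent.LThree.Red

open Subgroup Cfsg Cfsg.Agent.SignalizersComponents

universe u v

/-! ### Centralizers of commuting elements -/

section

variable {G : Type u} [Group G]

/-- `C_{C(x)}(s) ≃* C_{C(s)}(x)` -/
def centCent {x s : G} (h : s * x = x * s) :
    ↥(centralizer ({(⟨s, mem_centralizer_singleton_iff.2 h⟩ : ↥(centralizer ({x} : Set G)))} :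
      Set ↥(centralizer ({x} : Set G)))) ≃*
    ↥(centralizer ({(⟨x, mem_centralizer_singleton_iff.2 h.symm⟩ : ↥(centralizer ({s} : Set G)))} :
      Set ↥(centralizer ({s} : Set G)))) where
  toFun y := ⟨⟨((y : ↥(centralizer ({x} : Set G))) : G),
      mem_centralizer_singleton_iff.2 (congrArg Subtype.val (mem_centralizer_singleton_iff.1 y.2))⟩,
    mem_centralizer_singleton_iff.2 (Subtype.ext (mem_centralizer_singleton_iff.1 (y : ↥(centralizer ({x} : Set G))).2))⟩
  invFun y := ⟨⟨((y : ↥(centralizer ({s} : Set G))) : G),
      mem_centralizer_singleton_iff.2 (congrArg Subtype.val (mem_centralizer_singleton_iff.1 y.2))⟩,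
    mem_centralizer_singleton_iff.2 (Subtype.ext (mem_centralizer_singleton_iff.1 (y : ↥(centralizer ({s} : Set G))).2))⟩
  left_inv _ := rfl
  right_inv _ := rfl
  map_mul' _ _ := rfl

end

/-! ### The wrapper -/

/-! ### Products -/

section

variable {H : Type u} [Group H] [Finite H] {p : ℕ}

/-- the components of `H / O_{p'}(H)` contained in the image of the normal subgroup `A` -/
theorem inC_of_le_normal (A : Subgroup H) [A.Normal] (hA : Comps p ↥A) {K : Subgroup (H ⧸ pPrimeCore p H)}
    (hK : IsComponent K) (hKA : K ≤ A.map (QuotientGroup.mk' (pPrimeCore p H))) : InC p ↥K := by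
  have hn := Lib.Cores.pPrimeCore_normal (G := H) p
  let π := QuotientGroup.mk' (pPrimeCore p H)
  have hAn : (A.map π).Normal := Subgroup.Normal.map inferInstance π (QuotientGroup.mk'_surjective _)
  -- `Comps p (A.map π)`
  have h1 : Comps p ↥(A.map π) := by
    refine (comps_iff_of_surj (p := p) (π.subgroupMap A) (π.subgroupMap_surjective A) ?_).2 hA
    have h2 : (π.subgroupMap A).ker = (pPrimeCore p H).subgroupOf A := by
      ext a
      rw [MonoidHom.mem_ker, mem_subgroupOf, ← QuotientGroup.eq_one_iff]
      exact Subtype.ext_iff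
    rw [h2]
    exact card_inf_coprime (Lib.Cores.pPrimeCore_coprime p)
  -- trivial core
  have h3 : pPrimeCore p ↥(A.map π) = ⊥ := by
    have hb : pPrimeCore p (H ⧸ pPrimeCore p H) = ⊥ := Lib.Cores.pPrimeCore_quotient_pPrimeCore p
    have h6 := CompBasic.map_subtype_pPrimeCore_of_subnormal p (hAn.isSubnormal)
    rw [hb, inf_bot_eq] at h6
    exact (Subgroup.map_eq_bot_iff_of_injective _ (A.map π).subtype_injective).1 h6
  have h4 : IsComponent (K.subgroupOf (A.map π)) := Components.isComponent_subgroupOf hKA hK
  have h5 := (comps_iff_of_core_bot h3).1 h1 _ h4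
  exact (CpQuot.Congr.inC_iff (subgroupOfEquivOfLe hKA) p).1 h5

theorem comps_of_sup_normal (A B : Subgroup H) [A.Normal] [B.Normal] (h : A ⊔ B = ⊤) (hA : Comps p ↥A)
    (hB : Comps p ↥B) : Comps p H := by
  have hn := Lib.Cores.pPrimeCore_normal (G := H) p
  intro K hK
  let π := QuotientGroup.mk' (pPrimeCore p H)
  have hπ : Function.Surjective π := QuotientGroup.mk'_surjective _
  have hAn : (A.map π).Normal := Subgroup.Normal.map inferInstance π hπ
  have hBn : (B.map π).Normal := Subgroup.Normal.map inferInstance π hπ
  by_cases h1 : K ≤ A.map π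
  · exact inC_of_le_normal A hA hK h1
  by_cases h2 : K ≤ B.map π
  · exact inC_of_le_normal B hB hK h2
  exfalso
  have h3 : K ≤ centralizer ((A.map π : Subgroup _) : Set _) := by
    rcases Components.component_le_or_commutator_eq_bot_of_le_normalizer hK (H := A.map π)
      (by rw [normalizer_eq_top]; exact le_top) with h | h
    · exact absurd h h1
    · exact commutator_eq_bot_iff_le_centralizer.1 h
  have h4 : K ≤ centralizer ((B.map π : Subgroup _) : Set _) := by
    rcases Components.component_le_or_commutator_eq_bot_of_le_normalizer hK (H := B.map π)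
      (by rw [normalizer_eq_top]; exact le_top) with h | h
    · exact absurd h h2
    · exact commutator_eq_bot_iff_le_centralizer.1 h
  have h5 : A.map π ⊔ B.map π = ⊤ := by
    rw [← Subgroup.map_sup, h, Subgroup.map_top_of_surjective _ hπ]
  apply Components.quasisimple_not_isMulCommutative hK.2
  refine ⟨⟨fun a b => Subtype.ext ?_⟩⟩
  have h6 : (⊤ : Subgroup (H ⧸ pPrimeCore p H)) ≤ centralizer (K : Set (H ⧸ pPrimeCore p H)) := by
    rw [← h5, sup_le_iff]
    exact ⟨le_centralizer_iff.1 h3, le_centralizer_iff.1 h4⟩
  exact mem_centralizer_iff.1 (h6 (mem_top (b : H ⧸ pPrimeCore p H))) a a.2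

end

/-! ### `CoreCond` -/

section

variable {Y : Type u} [Group Y] [Finite Y] {p : ℕ} {s : Y}

end

end Cfsg.Agent.LThree.Red
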